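import Mathlib

set_option autoImplicit false

/-! Integer vectors of norm three: basic facts and the shared-point lemma. -/

namespace Cfsg.Agent.Helper25.Tri

variable {X : Type*} [Fintype X]

/-- The standard bilinear form on integer vectors. -/
def dot (u v : X → ℤ) : ℤ := ∑ x, u x * v x

theorem dot_comm (u v : X → ℤ) : dot u v = dot v u := by
  unfold dot
  exact Finset.sum_congr rfl (fun x _ => mul_comm _ _)

theorem dot_sub_sub (u v : X → ℤ) :
    dot (u - v) (u - v) = dot u u - 2 * dot u v + dot v v := by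
  unfold dot
  rw [Finset.mul_sum, ← Finset.sum_sub_distrib, ← Finset.sum_add_distrib]
  refine Finset.sum_congr rfl (fun x _ => ?_)
  simp only [Pi.sub_apply]
  ring

theorem dot_sub_left (u v w : X → ℤ) : dot (u - v) w = dot u w - dot v w := by
  unfold dot
  rw [← Finset.sum_sub_distrib]
  refine Finset.sum_congr rfl (fun x _ => ?_)
  simp only [Pi.sub_apply]
  ring

/-- If a sum of nonnegative terms equals one of its terms, the others vanish. -/
theorem eq_zero_of_sum_eq_single {f : X → ℤ} (hf : ∀ x, 0 ≤ f x) {x₀ : X}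
    (h : ∑ x, f x = f x₀) {x : X} (hx : x ≠ x₀) : f x = 0 := by
  classical
  have h1 : f x₀ + ∑ y ∈ Finset.univ.erase x₀, f y = ∑ y, f y :=
    Finset.add_sum_erase _ _ (Finset.mem_univ x₀)
  have h2 : f x ≤ ∑ y ∈ Finset.univ.erase x₀, f y :=
    Finset.single_le_sum (fun y _ => hf y) (Finset.mem_erase.mpr ⟨hx, Finset.mem_univ x⟩)
  have := hf x
  omega

theorem sq_le_of_norm {u : X → ℤ} {n : ℤ} (h : dot u u = n) (x : X) : u x * u x ≤ n := by
  rw [← h]
  exact Finset.single_le_sum (f := fun y => u y * u y) (fun y _ => mul_self_nonneg (u y))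
    (Finset.mem_univ x)

/-- Entries of a vector of norm three are `-1`, `0` or `1`. -/
theorem val_of_norm3 {u : X → ℤ} (h : dot u u = 3) (x : X) : u x = -1 ∨ u x = 0 ∨ u x = 1 := by
  have h1 := sq_le_of_norm h x
  have h2 : -1 ≤ u x := by nlinarith
  have h3 : u x ≤ 1 := by nlinarith
  omega

theorem mul_self_of_ne_zero {u : X → ℤ} (h : dot u u = 3) {x : X} (hx : u x ≠ 0) :
    u x * u x = 1 := by
  rcases val_of_norm3 h x with h1 | h1 | h1
  · rw [h1]; rfl
  · exact absurd h1 hx
  · rw [h1]; rfl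

theorem aux_neg_prod {a b : ℤ} (ha : a = -1 ∨ a = 0 ∨ a = 1) (hb : b = -1 ∨ b = 0 ∨ b = 1)
    (h : a * b < 0) : (a - b) * (a - b) = 4 := by
  rcases ha with rfl | rfl | rfl <;> rcases hb with rfl | rfl | rfl <;> omega

theorem aux_pos_prod {a b : ℤ} (ha : a = -1 ∨ a = 0 ∨ a = 1) (hb : b = -1 ∨ b = 0 ∨ b = 1)
    (h : a * b ≠ 0) (h' : 0 ≤ a * b) : a = b ∧ a ≠ 0 ∧ a * b = 1 := by
  rcases ha with rfl | rfl | rfl <;> rcases hb with rfl | rfl | rfl <;> omega

/-- The shared-point lemma: two vectors of norm three with inner product one and equal weighted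
coordinate sums (for a positive weight) have exactly one common support point, with equal
values there. -/
theorem shared_point {u v d : X → ℤ} (hu : dot u u = 3) (hv : dot v v = 3) (huv : dot u v = 1)
    (hd : ∀ x, 0 < d x) (hdeg : dot u d = dot v d) :
    ∃ x₀, u x₀ = v x₀ ∧ u x₀ ≠ 0 ∧ ∀ x, x ≠ x₀ → u x * v x = 0 := by
  classical
  -- all products are nonnegative
  have hnn : ∀ x, 0 ≤ u x * v x := by
    intro x
    by_contra hneg
    push Not at hneg
    have hux := val_of_norm3 hu x
    have hvx := val_of_norm3 hv x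
    have h4 : (u - v) x * (u - v) x = 4 := by
      simp only [Pi.sub_apply]
      exact aux_neg_prod hux hvx hneg
    have hnorm : dot (u - v) (u - v) = 4 := by rw [dot_sub_sub, hu, hv, huv]; rfl
    have hz : ∀ y, y ≠ x → (u - v) y * (u - v) y = 0 := by
      intro y hy
      refine eq_zero_of_sum_eq_single (f := fun y => (u - v) y * (u - v) y)
        (fun y => mul_self_nonneg _) ?_ hy
      show dot (u - v) (u - v) = _
      rw [hnorm, h4]
    have hsum : dot (u - v) d = (u - v) x * d x := by
      unfold dot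
      refine Finset.sum_eq_single x (fun y _ hy => ?_) (fun h => absurd (Finset.mem_univ x) h)
      have := mul_self_eq_zero.mp (hz y hy)
      rw [this, zero_mul]
    rw [dot_sub_left, hdeg, sub_self] at hsum
    have hne : (u - v) x ≠ 0 := by
      intro h0
      rw [h0] at h4
      exact absurd h4 (by decide)
    exact absurd hsum.symm (mul_ne_zero hne (hd x).ne')
  -- some product is nonzero
  have hex : ∃ x₀, u x₀ * v x₀ ≠ 0 := by
    by_contra hcon
    push Not at hcon
    have : dot u v = 0 := Finset.sum_eq_zero (fun x _ => hcon x)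
    rw [huv] at this
    exact absurd this one_ne_zero
  obtain ⟨x₀, hx₀⟩ := hex
  have hux := val_of_norm3 hu x₀
  have hvx := val_of_norm3 hv x₀
  have hnn₀ := hnn x₀
  have hval : u x₀ = v x₀ ∧ u x₀ ≠ 0 ∧ u x₀ * v x₀ = 1 := aux_pos_prod hux hvx hx₀ hnn₀
  refine ⟨x₀, hval.1, hval.2.1, fun x hx => ?_⟩
  refine eq_zero_of_sum_eq_single (f := fun y => u y * v y) hnn ?_ hx
  show dot u v = _
  rw [huv, hval.2.2]

/-- Two vectors of norm three with inner product one and the same weight. -/
structure Linked (d u v : X → ℤ) : Prop where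
  nu : dot u u = 3
  nv : dot v v = 3
  uv : dot u v = 1
  deg : dot u d = dot v d

theorem Linked.symm {d u v : X → ℤ} (h : Linked d u v) : Linked d v u :=
  ⟨h.nv, h.nu, by rw [dot_comm]; exact h.uv, h.deg.symm⟩

section linked
variable {d u v : X → ℤ} (hd : ∀ x, 0 < d x)
include hd

theorem Linked.exists_common (h : Linked d u v) : ∃ x, u x ≠ 0 ∧ v x ≠ 0 := by
  obtain ⟨x₀, h1, h2, _⟩ := shared_point h.nu h.nv h.uv hd h.deg
  exact ⟨x₀, h2, h1 ▸ h2⟩

theorem Linked.common_unique (h : Linked d u v) {x y : X} (hx : u x ≠ 0) (hx' : v x ≠ 0)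
    (hy : u y ≠ 0) (hy' : v y ≠ 0) : x = y := by
  obtain ⟨x₀, _, _, h3⟩ := shared_point h.nu h.nv h.uv hd h.deg
  have e1 : x = x₀ := by
    by_contra hne
    exact mul_ne_zero hx hx' (h3 x hne)
  have e2 : y = x₀ := by
    by_contra hne
    exact mul_ne_zero hy hy' (h3 y hne)
  rw [e1, e2]

theorem Linked.common_val (h : Linked d u v) {x : X} (hx : u x ≠ 0) (hx' : v x ≠ 0) :
    u x = v x := by
  obtain ⟨x₀, h1, _, h3⟩ := shared_point h.nu h.nv h.uv hd h.deg
  have e1 : x = x₀ := by
    by_contra hne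
    exact mul_ne_zero hx hx' (h3 x hne)
  rw [e1]; exact h1

theorem Linked.nonneg_mul (h : Linked d u v) (x : X) : 0 ≤ u x * v x := by
  obtain ⟨x₀, h1, _, h3⟩ := shared_point h.nu h.nv h.uv hd h.deg
  by_cases hx : x = x₀
  · rw [hx, h1]; exact mul_self_nonneg _
  · rw [h3 x hx]

end linked

/-- At most three points in the support of a vector of norm three. -/
theorem card_le_three {u : X → ℤ} (h : dot u u = 3) (A : Finset X) (hA : ∀ x ∈ A, u x ≠ 0) :
    A.card ≤ 3 := by
  have h1 : (A.card : ℤ) = ∑ x ∈ A, u x * u x := by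
    rw [Finset.sum_congr rfl (fun x hx => mul_self_of_ne_zero h (hA x hx))]
    simp
  have h2 : ∑ x ∈ A, u x * u x ≤ ∑ x, u x * u x :=
    Finset.sum_le_sum_of_subset_of_nonneg (Finset.subset_univ A)
      (fun x _ _ => mul_self_nonneg _)
  have h3 : (A.card : ℤ) ≤ 3 := by
    rw [h1]; exact h2.trans_eq h
  exact_mod_cast h3

theorem support_three {u : X → ℤ} (h : dot u u = 3) {x y z : X} (hxy : x ≠ y) (hxz : x ≠ z)
    (hyz : y ≠ z) (hx : u x ≠ 0) (hy : u y ≠ 0) (hz : u z ≠ 0) {t : X} (ht : u t ≠ 0) :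
    t = x ∨ t = y ∨ t = z := by
  classical
  by_contra hcon
  push Not at hcon
  have hc := card_le_three h {x, y, z, t} (by
    intro w hw
    simp only [Finset.mem_insert, Finset.mem_singleton] at hw
    rcases hw with rfl | rfl | rfl | rfl <;> assumption)
  have h4 : ({x, y, z, t} : Finset X).card = 4 := by
    rw [Finset.card_insert_of_notMem, Finset.card_insert_of_notMem, Finset.card_insert_of_notMem,
      Finset.card_singleton]
    · simp only [Finset.mem_singleton]; exact fun e => hcon.2.2 e.symm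
    · simp only [Finset.mem_insert, Finset.mem_singleton]
      rintro (e | e)
      · exact hyz e
      · exact hcon.2.1 e.symm
    · simp only [Finset.mem_insert, Finset.mem_singleton]
      rintro (e | e | e)
      · exact hxy e
      · exact hxz e
      · exact hcon.1 e.symm
  omega

theorem exists_third {u : X → ℤ} (h : dot u u = 3) {x y : X} (hxy : x ≠ y) (hx : u x ≠ 0)
    (hy : u y ≠ 0) :
    ∃ z, z ≠ x ∧ z ≠ y ∧ u z ≠ 0 ∧ ∀ t, u t ≠ 0 → t = x ∨ t = y ∨ t = z := by
  classical
  have hex : ∃ z, z ≠ x ∧ z ≠ y ∧ u z ≠ 0 := by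
    by_contra hcon
    push Not at hcon
    have h2 : dot u u = ∑ t ∈ ({x, y} : Finset X), u t * u t := by
      unfold dot
      symm
      apply Finset.sum_subset (Finset.subset_univ _)
      intro t _ ht
      simp only [Finset.mem_insert, Finset.mem_singleton, not_or] at ht
      rw [hcon t ht.1 ht.2, mul_zero]
    rw [Finset.sum_pair hxy, mul_self_of_ne_zero h hx, mul_self_of_ne_zero h hy, h] at h2
    exact absurd h2 (by decide)
  obtain ⟨z, hzx, hzy, hz⟩ := hex
  exact ⟨z, hzx, hzy, hz, fun t ht => support_three h hxy hzx.symm hzy.symm hx hy hz ht⟩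

section restrict
variable {ι : Type*} [Fintype ι] {pt : ι → X}

theorem sum_comp_le (hpt : Function.Injective pt) (g : X → ℤ) :
    ∑ t, g (pt t) * g (pt t) ≤ dot g g := by
  classical
  have e : ∑ t, g (pt t) * g (pt t) = ∑ x ∈ Finset.univ.image pt, g x * g x :=
    (Finset.sum_image (f := fun x => g x * g x) (fun a _ b _ hab => hpt hab)).symm
  rw [e]
  exact Finset.sum_le_sum_of_subset_of_nonneg (Finset.subset_univ _)
    (fun x _ _ => mul_self_nonneg _)

theorem sum_comp_eq_dot (hpt : Function.Injective pt) (g h : X → ℤ)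
    (hh : ∀ x, g x * h x ≠ 0 → ∃ t, pt t = x) :
    ∑ t, g (pt t) * h (pt t) = dot g h := by
  classical
  have e : ∑ t, g (pt t) * h (pt t) = ∑ x ∈ Finset.univ.image pt, g x * h x :=
    (Finset.sum_image (f := fun x => g x * h x) (fun a _ b _ hab => hpt hab)).symm
  rw [e]
  apply Finset.sum_subset (Finset.subset_univ _)
  intro x _ hx
  by_contra hne
  obtain ⟨t, rfl⟩ := hh x hne
  exact hx (Finset.mem_image_of_mem pt (Finset.mem_univ t))

theorem support_of_sum_comp_eq (hpt : Function.Injective pt) (g : X → ℤ)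
    (he : ∑ t, g (pt t) * g (pt t) = dot g g) {x : X} (hx : g x ≠ 0) : ∃ t, pt t = x := by
  classical
  by_contra hcon
  push Not at hcon
  have e : ∑ t, g (pt t) * g (pt t) = ∑ y ∈ Finset.univ.image pt, g y * g y :=
    (Finset.sum_image (f := fun y => g y * g y) (fun a _ b _ hab => hpt hab)).symm
  have hx' : x ∉ Finset.univ.image pt := by
    intro hmem
    obtain ⟨t, _, ht⟩ := Finset.mem_image.mp hmem
    exact hcon t ht
  have h1 : ∑ y ∈ insert x (Finset.univ.image pt), g y * g y ≤ ∑ y, g y * g y :=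
    Finset.sum_le_sum_of_subset_of_nonneg (Finset.subset_univ _)
      (fun y _ _ => mul_self_nonneg _)
  rw [Finset.sum_insert hx', ← e, he] at h1
  have h2 : 0 < g x * g x := mul_self_pos.mpr hx
  unfold dot at h1
  omega

end restrict

end Cfsg.Agent.Helper25.Tri
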