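import Mathlib

set_option autoImplicit false

/-! The finite core of the "three lines through a point and a fourth line" configuration. -/

namespace Cfsg.Agent.Helper25.Tri

/-- The standard form on `Fin 7 → ℤ`, written out. -/
def dot7 (u v : Fin 7 → ℤ) : ℤ :=
  u 0 * v 0 + u 1 * v 1 + u 2 * v 2 + u 3 * v 3 + u 4 * v 4 + u 5 * v 5 + u 6 * v 6

/-- Incidence vectors: lines `{0,1,4}`, `{0,2,5}`, `{0,3,6}`, `{1,2,3}`. -/
def inc : Fin 4 → Fin 7 → ℤ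
  | 0 => ![1, 1, 0, 0, 1, 0, 0]
  | 1 => ![1, 0, 1, 0, 0, 1, 0]
  | 2 => ![1, 0, 0, 1, 0, 0, 1]
  | 3 => ![0, 1, 1, 1, 0, 0, 0]

/-- The possible restrictions of the second-row vectors. -/
def opt : Fin 4 → Fin 4 → Fin 7 → ℤ
  | 0, 0 => ![0, 0, 0, 0, 1, 0, 0]
  | 0, 1 => ![0, 1, -1, 0, 0, 1, 0]
  | 0, 2 => ![0, 1, 0, -1, 0, 0, 1]
  | 0, 3 => ![1, 0, 0, 0, 0, -1, -1]
  | 1, 0 => ![0, -1, 1, 0, 1, 0, 0]
  | 1, 1 => ![0, 0, 0, 0, 0, 1, 0]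
  | 1, 2 => ![0, 0, 1, -1, 0, 0, 1]
  | 1, 3 => ![1, 0, 0, 0, -1, 0, -1]
  | 2, 0 => ![0, -1, 0, 1, 1, 0, 0]
  | 2, 1 => ![0, 0, -1, 1, 0, 1, 0]
  | 2, 2 => ![0, 0, 0, 0, 0, 0, 1]
  | 2, 3 => ![1, 0, 0, 0, -1, -1, 0]
  | 3, 0 => ![0, 0, 0, 1, 0, 0, -1]
  | 3, 1 => ![0, 0, 1, 0, 0, -1, 0]
  | 3, 2 => ![0, 1, 0, 0, -1, 0, 0]
  | 3, 3 => ![0, 1, 0, 0, -1, 0, 0]

def sv (a0 a1 a2 a3 a4 a5 a6 : SignType) : Fin 7 → ℤ :=
  ![(a0 : ℤ), (a1 : ℤ), (a2 : ℤ), (a3 : ℤ), (a4 : ℤ), (a5 : ℤ), (a6 : ℤ)]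

set_option synthInstance.maxSize 2000 in
set_option maxRecDepth 1000000 in
theorem classify : ∀ (l : Fin 4) (a0 a1 a2 a3 a4 a5 a6 : SignType),
    dot7 (sv a0 a1 a2 a3 a4 a5 a6) (sv a0 a1 a2 a3 a4 a5 a6) ≤ 3 →
    (∀ m : Fin 4, dot7 (sv a0 a1 a2 a3 a4 a5 a6) (inc m) = if l = m then 1 else 0) →
    ∃ o : Fin 4, ∀ t : Fin 7, sv a0 a1 a2 a3 a4 a5 a6 t = opt l o t := by
  decide

/-- Weak compatibility of two restrictions. -/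
def Compat (u v : Fin 7 → ℤ) : Prop :=
  (∀ t, 0 ≤ u t * v t) ∧ (dot7 u u = 3 → dot7 u v = 1)

instance (u v : Fin 7 → ℤ) : Decidable (Compat u v) := by
  unfold Compat; infer_instance

set_option maxRecDepth 1000000 in
theorem no_compat : ∀ o0 o1 o2 o3 : Fin 4,
    ∃ l l' : Fin 4, l ≠ l' ∧ ¬ Compat (opt l (![o0, o1, o2, o3] l)) (opt l' (![o0, o1, o2, o3] l')) := by
  decide

end Cfsg.Agent.Helper25.Tri

namespace Cfsg.Agent.Helper25.Tri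

theorem sign_cast_eq {z : ℤ} (h : z = -1 ∨ z = 0 ∨ z = 1) : ((SignType.sign z : SignType) : ℤ) = z := by
  rcases h with rfl | rfl | rfl <;> simp

theorem eq_sv (v : Fin 7 → ℤ) (h : ∀ t, v t = -1 ∨ v t = 0 ∨ v t = 1) :
    v = sv (SignType.sign (v 0)) (SignType.sign (v 1)) (SignType.sign (v 2)) (SignType.sign (v 3))
      (SignType.sign (v 4)) (SignType.sign (v 5)) (SignType.sign (v 6)) := by
  funext t
  fin_cases t <;> simp [sv, sign_cast_eq (h _)]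

/-- The finite core: no four restricted vectors satisfy all constraints. -/
theorem kill31_core (G : Fin 4 → Fin 7 → ℤ)
    (hb : ∀ l t, G l t = -1 ∨ G l t = 0 ∨ G l t = 1)
    (hn : ∀ l, dot7 (G l) (G l) ≤ 3)
    (hd : ∀ l m, dot7 (G l) (inc m) = if l = m then 1 else 0)
    (hF1 : ∀ l l', l ≠ l' → ∀ t, 0 ≤ G l t * G l' t)
    (hF2 : ∀ l l', l ≠ l' → dot7 (G l) (G l) = 3 → dot7 (G l) (G l') = 1) : False := by
  have hcl : ∀ l, ∃ o : Fin 4, G l = opt l o := by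
    intro l
    have e := eq_sv (G l) (hb l)
    have hn' := hn l
    have hd' := hd l
    rw [e] at hn' hd'
    obtain ⟨o, ho⟩ := classify l _ _ _ _ _ _ _ hn' hd'
    refine ⟨o, ?_⟩
    rw [e]
    exact funext ho
  choose o ho using hcl
  obtain ⟨l, l', hne, hnc⟩ := no_compat (o 0) (o 1) (o 2) (o 3)
  apply hnc
  have e : ∀ l : Fin 4, ![o 0, o 1, o 2, o 3] l = o l := by
    intro l; fin_cases l <;> rfl
  rw [e, e, ← ho l, ← ho l']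
  exact ⟨hF1 l l' hne, hF2 l l' hne⟩

end Cfsg.Agent.Helper25.Tri
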