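import Mathlib
import Cfsg.Agent.Helper25.Tri.Basic
import Cfsg.Agent.Helper25.Tri.Core31

set_option autoImplicit false

/-! Rows of linked vectors, and the impossibility of three lines through a point plus a fourth
line avoiding it (in the presence of a second row). -/

namespace Cfsg.Agent.Helper25.Tri

variable {X : Type*} [Fintype X] {J : Type*}

/-- A family of pairwise linked vectors of norm three. -/
structure IsRow (d : X → ℤ) (c : ℤ) (F : J → X → ℤ) : Prop where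
  norm : ∀ j, dot (F j) (F j) = 3
  pair : ∀ j l, j ≠ l → dot (F j) (F l) = 1
  deg : ∀ j, dot (F j) d = c

theorem IsRow.linked {d : X → ℤ} {c : ℤ} {F : J → X → ℤ} (h : IsRow d c F) {j l : J}
    (hjl : j ≠ l) : Linked d (F j) (F l) :=
  ⟨h.norm j, h.norm l, h.pair j l hjl, by rw [h.deg, h.deg]⟩

theorem dot7_eq_sum (u v : Fin 7 → ℤ) : dot7 u v = ∑ t, u t * v t := by
  simp [dot7, Fin.sum_univ_succ]
  ring

theorem mul_mem_of_mem {a b : ℤ} (ha : a = -1 ∨ a = 0 ∨ a = 1) (hb : b = -1 ∨ b = 0 ∨ b = 1) :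
    a * b = -1 ∨ a * b = 0 ∨ a * b = 1 := by
  rcases ha with rfl | rfl | rfl <;> rcases hb with rfl | rfl | rfl <;> simp

/-- Given a line `S` through `r` and a line `T` not through `r`, linked: the common point `a`
and the third point `b` of `S`. -/
theorem exists_ab {d : X → ℤ} (hd : ∀ x, 0 < d x) {S T : X → ℤ} (h : Linked d S T) {r : X}
    (hS : S r ≠ 0) (hT : T r = 0) :
    ∃ a b, a ≠ r ∧ b ≠ r ∧ b ≠ a ∧ S a ≠ 0 ∧ T a ≠ 0 ∧ S b ≠ 0 ∧
      ∀ t, S t ≠ 0 → t = r ∨ t = a ∨ t = b := by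
  obtain ⟨a, ha, ha'⟩ := h.exists_common hd
  have har : a ≠ r := fun e => ha' (e ▸ hT)
  obtain ⟨b, hbr, hba, hb, hsupp⟩ := exists_third h.nu har.symm hS ha
  exact ⟨a, b, har, hbr, hba, ha, ha', hb, hsupp⟩

theorem zero_of_common {d : X → ℤ} (hd : ∀ x, 0 < d x) {S S' : X → ℤ} (h : Linked d S S')
    {r : X} (hS : S r ≠ 0) (hS' : S' r ≠ 0) {x : X} (hx : x ≠ r) (hSx : S x ≠ 0) : S' x = 0 := by
  by_contra hne
  exact hx (h.common_unique hd hSx hne hS hS')

/-- Three lines of a row through a point `r` and a fourth line of the same row avoiding `r`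
cannot coexist with a second row. -/
theorem kill31 [DecidableEq J] {d : X → ℤ} (hd : ∀ x, 0 < d x) {c : ℤ} {F F' : J → X → ℤ}
    (hF : IsRow d c F) (hF' : IsRow d c F')
    (hX : ∀ j l, dot (F j) (F' l) = if j = l then 1 else 0)
    (cs : Fin 4 → J) (hcs : Function.Injective cs) {r : X}
    (h0 : F (cs 0) r ≠ 0) (h1 : F (cs 1) r ≠ 0) (h2 : F (cs 2) r ≠ 0) (h3 : F (cs 3) r = 0) :
    False := by
  classical
  have hne : ∀ {l m : Fin 4}, l ≠ m → cs l ≠ cs m := fun h e => h (hcs e)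
  have L03 := hF.linked (hne (show (0 : Fin 4) ≠ 3 by decide))
  have L13 := hF.linked (hne (show (1 : Fin 4) ≠ 3 by decide))
  have L23 := hF.linked (hne (show (2 : Fin 4) ≠ 3 by decide))
  have L01 := hF.linked (hne (show (0 : Fin 4) ≠ 1 by decide))
  have L02 := hF.linked (hne (show (0 : Fin 4) ≠ 2 by decide))
  have L12 := hF.linked (hne (show (1 : Fin 4) ≠ 2 by decide))
  obtain ⟨a0, b0, ha0r, hb0r, hb0a0, hSa0, hTa0, hSb0, supp0⟩ := exists_ab hd L03 h0 h3
  obtain ⟨a1, b1, ha1r, hb1r, hb1a1, hSa1, hTa1, hSb1, supp1⟩ := exists_ab hd L13 h1 h3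
  obtain ⟨a2, b2, ha2r, hb2r, hb2a2, hSa2, hTa2, hSb2, supp2⟩ := exists_ab hd L23 h2 h3
  -- zero entries of the three lines
  have z0a1 : F (cs 0) a1 = 0 := zero_of_common hd L01.symm h1 h0 ha1r hSa1
  have z0b1 : F (cs 0) b1 = 0 := zero_of_common hd L01.symm h1 h0 hb1r hSb1
  have z0a2 : F (cs 0) a2 = 0 := zero_of_common hd L02.symm h2 h0 ha2r hSa2
  have z0b2 : F (cs 0) b2 = 0 := zero_of_common hd L02.symm h2 h0 hb2r hSb2
  have z1a0 : F (cs 1) a0 = 0 := zero_of_common hd L01 h0 h1 ha0r hSa0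
  have z1b0 : F (cs 1) b0 = 0 := zero_of_common hd L01 h0 h1 hb0r hSb0
  have z1a2 : F (cs 1) a2 = 0 := zero_of_common hd L12.symm h2 h1 ha2r hSa2
  have z1b2 : F (cs 1) b2 = 0 := zero_of_common hd L12.symm h2 h1 hb2r hSb2
  have z2a0 : F (cs 2) a0 = 0 := zero_of_common hd L02 h0 h2 ha0r hSa0
  have z2b0 : F (cs 2) b0 = 0 := zero_of_common hd L02 h0 h2 hb0r hSb0
  have z2a1 : F (cs 2) a1 = 0 := zero_of_common hd L12 h1 h2 ha1r hSa1
  have z2b1 : F (cs 2) b1 = 0 := zero_of_common hd L12 h1 h2 hb1r hSb1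
  -- distinctness
  have a01 : a0 ≠ a1 := fun e => hSa0 (e ▸ z0a1)
  have a02 : a0 ≠ a2 := fun e => hSa0 (e ▸ z0a2)
  have a12 : a1 ≠ a2 := fun e => hSa1 (e ▸ z1a2)
  have b01 : b0 ≠ b1 := fun e => hSb0 (e ▸ z0b1)
  have b02 : b0 ≠ b2 := fun e => hSb0 (e ▸ z0b2)
  have b12 : b1 ≠ b2 := fun e => hSb1 (e ▸ z1b2)
  have a0b1 : a0 ≠ b1 := fun e => hSa0 (e ▸ z0b1)
  have a0b2 : a0 ≠ b2 := fun e => hSa0 (e ▸ z0b2)
  have a1b0 : a1 ≠ b0 := fun e => hSa1 (e ▸ z1b0)
  have a1b2 : a1 ≠ b2 := fun e => hSa1 (e ▸ z1b2)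
  have a2b0 : a2 ≠ b0 := fun e => hSa2 (e ▸ z2b0)
  have a2b1 : a2 ≠ b1 := fun e => hSa2 (e ▸ z2b1)
  -- the fourth line
  have suppT : ∀ t, F (cs 3) t ≠ 0 → t = a0 ∨ t = a1 ∨ t = a2 := fun t ht =>
    support_three (hF.norm _) a01 a02 a12 hTa0 hTa1 hTa2 ht
  have z3b0 : F (cs 3) b0 = 0 := by
    by_contra h
    rcases suppT b0 h with e | e | e
    · exact hb0a0 e
    · exact a1b0 e.symm
    · exact a2b0 e.symm
  have z3b1 : F (cs 3) b1 = 0 := by
    by_contra h
    rcases suppT b1 h with e | e | e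
    · exact a0b1 e.symm
    · exact hb1a1 e
    · exact a2b1 e.symm
  have z3b2 : F (cs 3) b2 = 0 := by
    by_contra h
    rcases suppT b2 h with e | e | e
    · exact a0b2 e.symm
    · exact a1b2 e.symm
    · exact hb2a2 e
  -- values
  have e1r : F (cs 1) r = F (cs 0) r := (L01.common_val hd h0 h1).symm
  have e2r : F (cs 2) r = F (cs 0) r := (L02.common_val hd h0 h2).symm
  have e0a : F (cs 0) a0 = F (cs 3) a0 := L03.common_val hd hSa0 hTa0
  have e1a : F (cs 1) a1 = F (cs 3) a1 := L13.common_val hd hSa1 hTa1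
  have e2a : F (cs 2) a2 = F (cs 3) a2 := L23.common_val hd hSa2 hTa2
  -- the seven points
  obtain ⟨pt, hpt⟩ : ∃ pt : Fin 7 → X, pt = ![r, a0, a1, a2, b0, b1, b2] := ⟨_, rfl⟩
  obtain ⟨sg, hsg⟩ : ∃ sg : Fin 7 → ℤ, sg = ![F (cs 0) r, F (cs 3) a0, F (cs 3) a1, F (cs 3) a2,
    F (cs 0) b0, F (cs 1) b1, F (cs 2) b2] := ⟨_, rfl⟩
  have hinj : Function.Injective pt := by
    intro s t hst
    rw [hpt] at hst
    fin_cases s <;> fin_cases t <;> simp at hst ⊢ <;>
      first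
        | exact absurd hst (by assumption)
        | exact absurd hst.symm (by assumption)
  have hsg1 : ∀ t, sg t * sg t = 1 := by
    intro t
    rw [hsg]
    fin_cases t
    · exact mul_self_of_ne_zero (hF.norm _) h0
    · exact mul_self_of_ne_zero (hF.norm _) hTa0
    · exact mul_self_of_ne_zero (hF.norm _) hTa1
    · exact mul_self_of_ne_zero (hF.norm _) hTa2
    · exact mul_self_of_ne_zero (hF.norm _) hSb0
    · exact mul_self_of_ne_zero (hF.norm _) hSb1
    · exact mul_self_of_ne_zero (hF.norm _) hSb2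
  have hsgv : ∀ t, sg t = -1 ∨ sg t = 0 ∨ sg t = 1 := by
    intro t
    rw [hsg]
    fin_cases t <;> exact val_of_norm3 (hF.norm _) _
  have hres : ∀ (t : Fin 7) (a b : ℤ), (sg t * a) * (sg t * b) = a * b := by
    intro t a b
    have := hsg1 t
    calc (sg t * a) * (sg t * b) = (sg t * sg t) * (a * b) := by ring
      _ = a * b := by rw [this, one_mul]
  -- incidence
  have q0 := mul_self_of_ne_zero (hF.norm _) h0
  have q1 := mul_self_of_ne_zero (hF.norm _) hTa0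
  have q2 := mul_self_of_ne_zero (hF.norm _) hTa1
  have q3 := mul_self_of_ne_zero (hF.norm _) hTa2
  have q4 := mul_self_of_ne_zero (hF.norm _) hSb0
  have q5 := mul_self_of_ne_zero (hF.norm _) hSb1
  have q6 := mul_self_of_ne_zero (hF.norm _) hSb2
  have hinc : ∀ (l : Fin 4) (t : Fin 7), inc l t = sg t * F (cs l) (pt t) := by
    intro l t
    rw [hsg, hpt]
    fin_cases l <;> fin_cases t <;>
      simp [inc, e1r, e2r, e0a, e1a, e2a, z0a1, z0b1, z0a2, z0b2, z1a0, z1b0, z1a2, z1b2, z2a0,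
        z2b0, z2a1, z2b1, z3b0, z3b1, z3b2, h3, q0, q1, q2, q3, q4, q5, q6]
  -- supports lie in the seven points
  have hrange : ∀ (l : Fin 4) (x : X), F (cs l) x ≠ 0 → ∃ t, pt t = x := by
    intro l x hx
    rw [hpt]
    fin_cases l
    · rcases supp0 x hx with e | e | e
      · exact ⟨0, by simp [e]⟩
      · exact ⟨1, by simp [e]⟩
      · exact ⟨4, by simp [e]⟩
    · rcases supp1 x hx with e | e | e
      · exact ⟨0, by simp [e]⟩
      · exact ⟨2, by simp [e]⟩
      · exact ⟨5, by simp [e]⟩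
    · rcases supp2 x hx with e | e | e
      · exact ⟨0, by simp [e]⟩
      · exact ⟨3, by simp [e]⟩
      · exact ⟨6, by simp [e]⟩
    · rcases suppT x hx with e | e | e
      · exact ⟨1, by simp [e]⟩
      · exact ⟨2, by simp [e]⟩
      · exact ⟨3, by simp [e]⟩
  -- the restricted second row
  refine kill31_core (fun l t => sg t * F' (cs l) (pt t)) ?_ ?_ ?_ ?_ ?_
  · intro l t
    exact mul_mem_of_mem (hsgv t) (val_of_norm3 (hF'.norm _) _)
  · intro l
    rw [dot7_eq_sum]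
    simp only [hres]
    exact (sum_comp_le hinj (F' (cs l))).trans_eq (hF'.norm _)
  · intro l m
    rw [dot7_eq_sum]
    simp only [hinc, hres]
    rw [sum_comp_eq_dot hinj (F' (cs l)) (F (cs m)) (fun x hx =>
      hrange m x (right_ne_zero_of_mul hx)), dot_comm, hX]
    by_cases hlm : l = m
    · rw [if_pos hlm, if_pos (by rw [hlm])]
    · rw [if_neg hlm, if_neg (fun e => hlm (hcs e).symm)]
  · intro l l' hll t
    show 0 ≤ (sg t * F' (cs l) (pt t)) * (sg t * F' (cs l') (pt t))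
    rw [hres]
    exact (hF'.linked (hne hll)).nonneg_mul hd _
  · intro l l' hll h3'
    rw [dot7_eq_sum] at h3' ⊢
    simp only [hres] at h3' ⊢
    have hsupp : ∀ x, F' (cs l) x ≠ 0 → ∃ t, pt t = x := fun x hx =>
      support_of_sum_comp_eq hinj (F' (cs l)) (h3'.trans (hF'.norm _).symm) hx
    rw [sum_comp_eq_dot hinj (F' (cs l)) (F' (cs l')) (fun x hx =>
      hsupp x (left_ne_zero_of_mul hx))]
    exact hF'.pair _ _ (hne hll)

end Cfsg.Agent.Helper25.Tri
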