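import Mathlib
import Cfsg.Agent.Helper25.Tri.Kill31

set_option autoImplicit false

/-! The star lemma: all vectors of a row share a common support point. -/

namespace Cfsg.Agent.Helper25.Tri

variable {X : Type*} [Fintype X] {J : Type*}

/-- Four pairwise linked lines with no point on three of them cannot coexist with a vector
having inner products `1, 0, 0, 0` with them (parity). -/
theorem killK4 {u₁ u₂ u₃ u₄ g : X → ℤ}
    (n1 : dot u₁ u₁ = 3) (n2 : dot u₂ u₂ = 3) (n3 : dot u₃ u₃ = 3) (n4 : dot u₄ u₄ = 3)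
    (p12 : dot u₁ u₂ = 1) (p13 : dot u₁ u₃ = 1) (p14 : dot u₁ u₄ = 1) (p23 : dot u₂ u₃ = 1)
    (p24 : dot u₂ u₄ = 1) (p34 : dot u₃ u₄ = 1)
    (g1 : dot g u₁ = 1) (g2 : dot g u₂ = 0) (g3 : dot g u₃ = 0) (g4 : dot g u₄ = 0)
    (htwo : ∀ x, (u₁ x = 0 ∧ u₂ x = 0) ∨ (u₁ x = 0 ∧ u₃ x = 0) ∨ (u₁ x = 0 ∧ u₄ x = 0) ∨
      (u₂ x = 0 ∧ u₃ x = 0) ∨ (u₂ x = 0 ∧ u₄ x = 0) ∨ (u₃ x = 0 ∧ u₄ x = 0)) : False := by
  have hq : ∀ x, 0 ≤ 2 * (u₁ x * u₁ x + u₂ x * u₂ x + u₃ x * u₃ x + u₄ x * u₄ x) -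
      (u₁ x + u₂ x + u₃ x + u₄ x) * (u₁ x + u₂ x + u₃ x + u₄ x) := by
    intro x
    rcases htwo x with ⟨a, b⟩ | ⟨a, b⟩ | ⟨a, b⟩ | ⟨a, b⟩ | ⟨a, b⟩ | ⟨a, b⟩ <;> rw [a, b]
    · nlinarith [sq_nonneg (u₃ x - u₄ x)]
    · nlinarith [sq_nonneg (u₂ x - u₄ x)]
    · nlinarith [sq_nonneg (u₂ x - u₃ x)]
    · nlinarith [sq_nonneg (u₁ x - u₄ x)]
    · nlinarith [sq_nonneg (u₁ x - u₃ x)]
    · nlinarith [sq_nonneg (u₁ x - u₂ x)]
  have hsum : ∑ x, (2 * (u₁ x * u₁ x + u₂ x * u₂ x + u₃ x * u₃ x + u₄ x * u₄ x) -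
      (u₁ x + u₂ x + u₃ x + u₄ x) * (u₁ x + u₂ x + u₃ x + u₄ x)) = 0 := by
    have e : ∑ x, (2 * (u₁ x * u₁ x + u₂ x * u₂ x + u₃ x * u₃ x + u₄ x * u₄ x) -
        (u₁ x + u₂ x + u₃ x + u₄ x) * (u₁ x + u₂ x + u₃ x + u₄ x)) =
        (dot u₁ u₁ + dot u₂ u₂ + dot u₃ u₃ + dot u₄ u₄) -
          2 * (dot u₁ u₂ + dot u₁ u₃ + dot u₁ u₄ + dot u₂ u₃ + dot u₂ u₄ + dot u₃ u₄) := by
      unfold dot
      simp only [← Finset.sum_add_distrib, Finset.mul_sum, ← Finset.sum_sub_distrib]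
      refine Finset.sum_congr rfl (fun x _ => ?_)
      ring
    rw [e, n1, n2, n3, n4, p12, p13, p14, p23, p24, p34]
    rfl
  have hzero := (Finset.sum_eq_zero_iff_of_nonneg (fun x _ => hq x)).mp hsum
  have heven : ∀ x, Even (u₁ x + u₂ x + u₃ x + u₄ x) := by
    intro x
    have h0 := hzero x (Finset.mem_univ x)
    have h1 : Even ((u₁ x + u₂ x + u₃ x + u₄ x) * (u₁ x + u₂ x + u₃ x + u₄ x)) :=
      ⟨u₁ x * u₁ x + u₂ x * u₂ x + u₃ x * u₃ x + u₄ x * u₄ x, by linarith⟩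
    rcases Int.even_mul.mp h1 with h | h <;> exact h
  choose h hh using heven
  have e1 : ∑ x, g x * (u₁ x + u₂ x + u₃ x + u₄ x) =
      dot g u₁ + dot g u₂ + dot g u₃ + dot g u₄ := by
    unfold dot
    simp only [← Finset.sum_add_distrib]
    refine Finset.sum_congr rfl (fun x _ => ?_)
    ring
  have e2 : ∑ x, g x * (u₁ x + u₂ x + u₃ x + u₄ x) = 2 * ∑ x, g x * h x := by
    rw [Finset.mul_sum]
    refine Finset.sum_congr rfl (fun x _ => ?_)
    rw [hh x]; ring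
  rw [e1, g1, g2, g3, g4] at e2
  omega

/-- Any four lines of a row have a common point (in the presence of a second row). -/
theorem quad_common [DecidableEq J] {d : X → ℤ} (hd : ∀ x, 0 < d x) {c : ℤ} {F F' : J → X → ℤ}
    (hF : IsRow d c F) (hF' : IsRow d c F')
    (hX : ∀ j l, dot (F j) (F' l) = if j = l then 1 else 0)
    (cs : Fin 4 → J) (hcs : Function.Injective cs) : ∃ x, ∀ l, F (cs l) x ≠ 0 := by
  by_contra hno
  push Not at hno
  have hne : ∀ {l m : Fin 4}, l ≠ m → cs l ≠ cs m := fun h e => h (hcs e)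
  -- exactly-three configurations are impossible
  have k3 : ∀ x, F (cs 0) x ≠ 0 → F (cs 1) x ≠ 0 → F (cs 2) x ≠ 0 → F (cs 3) x = 0 → False :=
    fun x a b c' e => kill31 hd hF hF' hX cs hcs a b c' e
  have k2 : ∀ x, F (cs 0) x ≠ 0 → F (cs 1) x ≠ 0 → F (cs 3) x ≠ 0 → F (cs 2) x = 0 → False := by
    intro x a b c' e
    have hσ : Function.Injective (![0, 1, 3, 2] : Fin 4 → Fin 4) := by decide
    exact kill31 hd hF hF' hX (cs ∘ ![0, 1, 3, 2]) (hcs.comp hσ) a b c' e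
  have k1 : ∀ x, F (cs 0) x ≠ 0 → F (cs 2) x ≠ 0 → F (cs 3) x ≠ 0 → F (cs 1) x = 0 → False := by
    intro x a b c' e
    have hσ : Function.Injective (![0, 2, 3, 1] : Fin 4 → Fin 4) := by decide
    exact kill31 hd hF hF' hX (cs ∘ ![0, 2, 3, 1]) (hcs.comp hσ) a b c' e
  have k0 : ∀ x, F (cs 1) x ≠ 0 → F (cs 2) x ≠ 0 → F (cs 3) x ≠ 0 → F (cs 0) x = 0 → False := by
    intro x a b c' e
    have hσ : Function.Injective (![1, 2, 3, 0] : Fin 4 → Fin 4) := by decide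
    exact kill31 hd hF hF' hX (cs ∘ ![1, 2, 3, 0]) (hcs.comp hσ) a b c' e
  have htwo : ∀ x, (F (cs 0) x = 0 ∧ F (cs 1) x = 0) ∨ (F (cs 0) x = 0 ∧ F (cs 2) x = 0) ∨
      (F (cs 0) x = 0 ∧ F (cs 3) x = 0) ∨ (F (cs 1) x = 0 ∧ F (cs 2) x = 0) ∨
      (F (cs 1) x = 0 ∧ F (cs 3) x = 0) ∨ (F (cs 2) x = 0 ∧ F (cs 3) x = 0) := by
    intro x
    by_cases a0 : F (cs 0) x = 0
    · by_cases a1 : F (cs 1) x = 0
      · exact Or.inl ⟨a0, a1⟩
      · by_cases a2 : F (cs 2) x = 0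
        · exact Or.inr (Or.inl ⟨a0, a2⟩)
        · by_cases a3 : F (cs 3) x = 0
          · exact Or.inr (Or.inr (Or.inl ⟨a0, a3⟩))
          · exact (k0 x a1 a2 a3 a0).elim
    · by_cases a1 : F (cs 1) x = 0
      · by_cases a2 : F (cs 2) x = 0
        · exact Or.inr (Or.inr (Or.inr (Or.inl ⟨a1, a2⟩)))
        · by_cases a3 : F (cs 3) x = 0
          · exact Or.inr (Or.inr (Or.inr (Or.inr (Or.inl ⟨a1, a3⟩))))
          · exact (k1 x a0 a2 a3 a1).elim
      · by_cases a2 : F (cs 2) x = 0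
        · by_cases a3 : F (cs 3) x = 0
          · exact Or.inr (Or.inr (Or.inr (Or.inr (Or.inr ⟨a2, a3⟩))))
          · exact (k2 x a0 a1 a3 a2).elim
        · by_cases a3 : F (cs 3) x = 0
          · exact (k3 x a0 a1 a2 a3).elim
          · exfalso
            obtain ⟨l, hl⟩ := hno x
            fin_cases l
            · exact a0 hl
            · exact a1 hl
            · exact a2 hl
            · exact a3 hl
  refine killK4 (hF.norm (cs 0)) (hF.norm (cs 1)) (hF.norm (cs 2)) (hF.norm (cs 3))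
    (hF.pair _ _ (hne (by decide))) (hF.pair _ _ (hne (by decide)))
    (hF.pair _ _ (hne (by decide))) (hF.pair _ _ (hne (by decide)))
    (hF.pair _ _ (hne (by decide))) (hF.pair _ _ (hne (by decide)))
    (g := F' (cs 0)) ?_ ?_ ?_ ?_ htwo
  · rw [dot_comm, hX, if_pos rfl]
  · rw [dot_comm, hX, if_neg (hne (by decide))]
  · rw [dot_comm, hX, if_neg (hne (by decide))]
  · rw [dot_comm, hX, if_neg (hne (by decide))]

/-- The star lemma: in the presence of a second row, all lines of a row (with two or at least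
four lines) pass through a common point. -/
theorem row_star [DecidableEq J] [Fintype J] {d : X → ℤ} (hd : ∀ x, 0 < d x) {c : ℤ}
    {F F' : J → X → ℤ} (hF : IsRow d c F) (hF' : IsRow d c F')
    (hX : ∀ j l, dot (F j) (F' l) = if j = l then 1 else 0)
    (hcard : Fintype.card J = 2 ∨ 4 ≤ Fintype.card J) : ∃ x, ∀ j, F j x ≠ 0 := by
  rcases hcard with h2 | h4
  · have h2' : Nat.card J = 2 := by rw [Nat.card_eq_fintype_card]; exact h2
    obtain ⟨j, l, hjl, huniv⟩ := Nat.card_eq_two_iff.mp h2'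
    obtain ⟨x, hx, hx'⟩ := (hF.linked hjl).exists_common hd
    refine ⟨x, fun t => ?_⟩
    have ht : t ∈ ({j, l} : Set J) := huniv ▸ Set.mem_univ t
    rcases ht with rfl | rfl
    · exact hx
    · exact hx'
  · have h1 : 1 < Fintype.card J := by omega
    obtain ⟨j₀, j₁, h01⟩ := Fintype.exists_pair_of_one_lt_card h1
    obtain ⟨r, hr0, hr1⟩ := (hF.linked h01).exists_common hd
    refine ⟨r, fun j => ?_⟩
    by_cases hj0 : j = j₀
    · rw [hj0]; exact hr0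
    by_cases hj1 : j = j₁
    · rw [hj1]; exact hr1
    -- a fourth index
    have hlt : ({j₀, j₁, j} : Finset J).card < (Finset.univ : Finset J).card := by
      rw [Finset.card_univ]
      exact lt_of_le_of_lt (Finset.card_le_three) (by omega)
    obtain ⟨j₃, _, hj₃⟩ := Finset.exists_mem_notMem_of_card_lt_card hlt
    simp only [Finset.mem_insert, Finset.mem_singleton, not_or] at hj₃
    have hinj : Function.Injective (![j₀, j₁, j, j₃] : Fin 4 → J) := by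
      intro s t hst
      fin_cases s <;> fin_cases t <;> simp at hst ⊢ <;> exact absurd hst (by tauto)
    obtain ⟨x, hx⟩ := quad_common hd hF hF' hX ![j₀, j₁, j, j₃] hinj
    have e : x = r := (hF.linked h01).common_unique hd (hx 0) (hx 1) hr0 hr1
    rw [← e]
    exact hx 2

end Cfsg.Agent.Helper25.Tri
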