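import Mathlib
import Cfsg.Agent.Helper25.Tri.Star

set_option autoImplicit false

/-! Grids of norm-three vectors: the decomposition `f i j = x i + y j + z i j`. -/

namespace Cfsg.Agent.Helper25.Tri

variable {X : Type*} [Fintype X] {I J : Type*}

/-- A grid of vectors of norm three with the inner products of Peterfalvi (3.5). -/
structure IsGrid (d : X → ℤ) (c : ℤ) (f : I → J → X → ℤ) : Prop where
  norm : ∀ i j, dot (f i j) (f i j) = 3
  row : ∀ i j l, j ≠ l → dot (f i j) (f i l) = 1
  col : ∀ i k j, i ≠ k → dot (f i j) (f k j) = 1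
  off : ∀ i k j l, i ≠ k → j ≠ l → dot (f i j) (f k l) = 0
  deg : ∀ i j, dot (f i j) d = c

variable {d : X → ℤ} {c : ℤ} {f : I → J → X → ℤ}

theorem IsGrid.transpose (h : IsGrid d c f) : IsGrid d c (fun j i => f i j) :=
  ⟨fun j i => h.norm i j, fun j i k hik => h.col i k j hik, fun j l i hjl => h.row i j l hjl,
    fun j l i k hjl hik => h.off i k j l hik hjl, fun j i => h.deg i j⟩

theorem IsGrid.isRow (h : IsGrid d c f) (i : I) : IsRow d c (f i) :=
  ⟨h.norm i, h.row i, h.deg i⟩

theorem IsGrid.cross [DecidableEq J] (h : IsGrid d c f) {i k : I} (hik : i ≠ k) (j l : J) :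
    dot (f i j) (f k l) = if j = l then 1 else 0 := by
  by_cases hjl : j = l
  · rw [if_pos hjl, hjl]; exact h.col i k l hik
  · rw [if_neg hjl]; exact h.off i k j l hik hjl

theorem IsGrid.linked_row (h : IsGrid d c f) (i : I) {j l : J} (hjl : j ≠ l) :
    Linked d (f i j) (f i l) := (h.isRow i).linked hjl

theorem IsGrid.linked_col (h : IsGrid d c f) {i k : I} (hik : i ≠ k) (j : J) :
    Linked d (f i j) (f k j) :=
  ⟨h.norm i j, h.norm k j, h.col i k j hik, by rw [h.deg, h.deg]⟩

/-- If a point lies on all lines of row `i` and on the line `(k, j)` with `k ≠ i`, then there are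
at most three columns. -/
theorem IsGrid.card_le_three_of_center [Fintype J] (hd : ∀ x, 0 < d x) (h : IsGrid d c f)
    {i k : I} (hik : i ≠ k) {j : J} {p : X} (hrow : ∀ l, f i l p ≠ 0) (hcol : f k j p ≠ 0) :
    Fintype.card J ≤ 3 := by
  classical
  have hq : ∀ l, l ≠ j → ∃ q, q ≠ p ∧ f i l q ≠ 0 ∧ f k j q ≠ 0 := by
    intro l hl
    have hval : f i l p = f k j p := by
      rw [(h.linked_row i hl).common_val hd (hrow l) (hrow j),
        (h.linked_col hik j).common_val hd (hrow j) hcol]
    have hpos : 0 < f i l p * f k j p := by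
      rw [hval]; exact mul_self_pos.mpr hcol
    have hsum : ∑ x, f i l x * f k j x = 0 := h.off i k l j hik hl
    by_contra hcon
    push Not at hcon
    have hnn : ∀ x, 0 ≤ f i l x * f k j x := by
      intro x
      by_cases hx : x = p
      · rw [hx]; exact hpos.le
      · by_cases h1 : f i l x = 0
        · rw [h1, zero_mul]
        · rw [hcon x hx h1, mul_zero]
    have := (Finset.sum_eq_zero_iff_of_nonneg (fun x _ => hnn x)).mp hsum p (Finset.mem_univ p)
    omega
  have : Nonempty X := ⟨p⟩
  choose! q hq1 hq2 hq3 using hq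
  obtain ⟨Q, hQ⟩ : ∃ Q : J → X, Q = fun l => if l = j then p else q l := ⟨_, rfl⟩
  have hQj : Q j = p := by rw [hQ]; simp
  have hQne : ∀ l, l ≠ j → Q l = q l := by intro l hl; rw [hQ]; simp [hl]
  have hinj : Function.Injective Q := by
    intro l l' hll
    by_contra hne
    by_cases h1 : l = j
    · have h2 : l' ≠ j := fun e => hne (h1.trans e.symm)
      rw [h1, hQj, hQne l' h2] at hll
      exact hq1 l' h2 hll.symm
    · by_cases h2 : l' = j
      · rw [h2, hQj, hQne l h1] at hll
        exact hq1 l h1 hll
      · rw [hQne l h1, hQne l' h2] at hll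
        have e := (h.linked_row i hne).common_unique hd (hq2 l h1) (hll ▸ hq2 l' h2)
          (hrow l) (hrow l')
        exact hq1 l h1 e
  have hsupp : ∀ x ∈ Finset.univ.image Q, f k j x ≠ 0 := by
    intro x hx
    obtain ⟨l, _, rfl⟩ := Finset.mem_image.mp hx
    by_cases h1 : l = j
    · rw [h1, hQj]; exact hcol
    · rw [hQne l h1]; exact hq3 l h1
  have := card_le_three (h.norm k j) _ hsupp
  rwa [Finset.card_image_of_injective _ hinj, Finset.card_univ] at this

/-- Peterfalvi (3.5): the decomposition of a grid. -/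
theorem grid_decomp [Fintype I] [Fintype J] [DecidableEq I] [DecidableEq J] [DecidableEq X]
    (hd : ∀ x, 0 < d x) (h : IsGrid d c f)
    (hI : Fintype.card I = 2 ∨ 4 ≤ Fintype.card I) (hJ : Fintype.card J = 2 ∨ 4 ≤ Fintype.card J)
    (hIJ : ¬ (Fintype.card I = 2 ∧ Fintype.card J = 2)) :
    ∃ (x : I → X) (y : J → X) (z : I → J → X) (sx : I → ℤ) (sy : J → ℤ) (sz : I → J → ℤ),
      Function.Injective x ∧ Function.Injective y ∧ (∀ i j, x i ≠ y j) ∧
      (∀ i j k, z i j ≠ x k) ∧ (∀ i j l, z i j ≠ y l) ∧
      (∀ i j k l, z i j = z k l → i = k ∧ j = l) ∧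
      (∀ i, sx i = 1 ∨ sx i = -1) ∧ (∀ j, sy j = 1 ∨ sy j = -1) ∧
      (∀ i j, sz i j = 1 ∨ sz i j = -1) ∧
      ∀ i j t, f i j t = (if t = x i then sx i else 0) + (if t = y j then sy j else 0) +
        (if t = z i j then sz i j else 0) := by
  have hI2 : 1 < Fintype.card I := by omega
  have hJ2 : 1 < Fintype.card J := by omega
  have hexI : ∀ i : I, ∃ k, k ≠ i := fun i => Fintype.exists_ne_of_one_lt_card hI2 i
  have hexJ : ∀ j : J, ∃ l, l ≠ j := fun j => Fintype.exists_ne_of_one_lt_card hJ2 j
  obtain ⟨i₀, _, _⟩ := Fintype.exists_pair_of_one_lt_card hI2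
  obtain ⟨j₀, _, _⟩ := Fintype.exists_pair_of_one_lt_card hJ2
  -- centres of rows and columns
  have hrow : ∀ i, ∃ x, ∀ j, f i j x ≠ 0 := by
    intro i
    obtain ⟨k, hk⟩ := hexI i
    exact row_star hd (h.isRow i) (h.isRow k) (fun j l => h.cross hk.symm j l) hJ
  have hcol : ∀ j, ∃ y, ∀ i, f i j y ≠ 0 := by
    intro j
    obtain ⟨l, hl⟩ := hexJ j
    exact row_star hd (h.transpose.isRow j) (h.transpose.isRow l)
      (fun i k => h.transpose.cross hl.symm i k) hI
  choose x hx using hrow
  choose y hy using hcol
  have hxy : ∀ i j, x i ≠ y j := by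
    intro i j e
    obtain ⟨k, hk⟩ := hexI i
    obtain ⟨l, hl⟩ := hexJ j
    have c1 : Fintype.card J ≤ 3 :=
      h.card_le_three_of_center hd hk.symm (j := j) (p := x i) (hx i) (by rw [e]; exact hy j k)
    have c2 : Fintype.card I ≤ 3 :=
      h.transpose.card_le_three_of_center hd hl.symm (j := i) (p := y j) (hy j)
        (by rw [← e]; exact hx i l)
    omega
  have hz : ∀ i j, ∃ z, z ≠ x i ∧ z ≠ y j ∧ f i j z ≠ 0 ∧
      ∀ t, f i j t ≠ 0 → t = x i ∨ t = y j ∨ t = z :=
    fun i j => exists_third (h.norm i j) (hxy i j) (hx i j) (hy j i)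
  choose z hzx hzy hz hsupp using hz
  have hxinj : Function.Injective x := by
    intro i k e
    by_contra hik
    have := (h.linked_col hik j₀).common_unique hd (hx i j₀) (by rw [e]; exact hx k j₀)
      (hy j₀ i) (hy j₀ k)
    exact hxy i j₀ this
  have hyinj : Function.Injective y := by
    intro j l e
    by_contra hjl
    have := (h.linked_row i₀ hjl).common_unique hd (hy j i₀) (by rw [e]; exact hy l i₀)
      (hx i₀ j) (hx i₀ l)
    exact hxy i₀ j this.symm
  have hzx' : ∀ i j k, z i j ≠ x k := by
    intro i j k e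
    by_cases hik : i = k
    · rw [← hik] at e; exact hzx i j e
    · have := (h.linked_col hik j).common_unique hd (hz i j) (by rw [e]; exact hx k j)
        (hy j i) (hy j k)
      exact hzy i j this
  have hzy' : ∀ i j l, z i j ≠ y l := by
    intro i j l e
    by_cases hjl : j = l
    · rw [← hjl] at e; exact hzy i j e
    · have := (h.linked_row i hjl).common_unique hd (hz i j) (by rw [e]; exact hy l i)
        (hx i j) (hx i l)
      exact hzx i j this
  have hzinj : ∀ i j k l, z i j = z k l → i = k ∧ j = l := by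
    intro i j k l e
    by_cases hik : i = k
    · refine ⟨hik, ?_⟩
      subst hik
      by_contra hjl
      have := (h.linked_row i hjl).common_unique hd (hz i j) (by rw [e]; exact hz i l)
        (hx i j) (hx i l)
      exact hzx i j this
    · exfalso
      by_cases hjl : j = l
      · subst hjl
        have := (h.linked_col hik j).common_unique hd (hz i j) (by rw [e]; exact hz k j)
          (hy j i) (hy j k)
        exact hzy i j this
      · have hsum : ∑ t, f i j t * f k l t = 0 := h.off i k j l hik hjl
        rw [Finset.sum_eq_single (z i j)] at hsum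
        · rcases mul_eq_zero.mp hsum with h0 | h0
          · exact hz i j h0
          · rw [e] at h0; exact hz k l h0
        · intro t _ ht
          by_contra hne
          have h1 := hsupp i j t (left_ne_zero_of_mul hne)
          have h2 := hsupp k l t (right_ne_zero_of_mul hne)
          rcases h1 with h1 | h1 | h1
          · rcases h2 with h2 | h2 | h2
            · exact hik (hxinj (h1.symm.trans h2))
            · exact hxy i l (h1.symm.trans h2)
            · exact hzx' k l i (h2.symm.trans h1)
          · rcases h2 with h2 | h2 | h2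
            · exact hxy k j (h2.symm.trans h1)
            · exact hjl (hyinj (h1.symm.trans h2))
            · exact hzy' k l j (h2.symm.trans h1)
          · exact ht h1
        · intro hnot; exact absurd (Finset.mem_univ _) hnot
  have pm : ∀ {u : X → ℤ} {t : X}, dot u u = 3 → u t ≠ 0 → u t = 1 ∨ u t = -1 := by
    intro u t hu ht
    rcases val_of_norm3 hu t with h1 | h1 | h1
    · exact Or.inr h1
    · exact absurd h1 ht
    · exact Or.inl h1
  have hsx : ∀ i j, f i j (x i) = f i j₀ (x i) := by
    intro i j
    by_cases hj : j = j₀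
    · rw [hj]
    · exact (h.linked_row i hj).common_val hd (hx i j) (hx i j₀)
  have hsy : ∀ i j, f i j (y j) = f i₀ j (y j) := by
    intro i j
    by_cases hi : i = i₀
    · rw [hi]
    · exact (h.linked_col hi j).common_val hd (hy j i) (hy j i₀)
  refine ⟨x, y, z, fun i => f i j₀ (x i), fun j => f i₀ j (y j), fun i j => f i j (z i j),
    hxinj, hyinj, hxy, hzx', hzy', hzinj, fun i => pm (h.norm _ _) (hx i j₀),
    fun j => pm (h.norm _ _) (hy j i₀), fun i j => pm (h.norm _ _) (hz i j), ?_⟩
  intro i j t
  by_cases h1 : t = x i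
  · rw [if_pos h1, if_neg (fun e => hxy i j (h1.symm.trans e)),
      if_neg (fun e => hzx i j (e.symm.trans h1)), h1, hsx i j]
    ring
  · by_cases h2 : t = y j
    · rw [if_neg h1, if_pos h2, if_neg (fun e => hzy i j (e.symm.trans h2)), h2, hsy i j]
      ring
    · by_cases h3 : t = z i j
      · rw [if_neg h1, if_neg h2, if_pos h3, h3]
        ring
      · rw [if_neg h1, if_neg h2, if_neg h3]
        by_contra hne
        rcases hsupp i j t hne with e | e | e
        · exact h1 e
        · exact h2 e
        · exact h3 e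

end Cfsg.Agent.Helper25.Tri
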